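import Cfsg.Agent.Omega.NO3S.FarQ.FOneGeo
import Cfsg.Agent.Omega.NO3S.PB.Geom
import Cfsg.Agent.Omega.NO3S.PB.Lin

/-!
# Points and lines of NO-3S without (F1), over the `(R, B)`-frame

`geo` : the instance of `FarQ.FOneGeo.Geo` from `PB S B P V Z`.
-/

set_option autoImplicit false
set_option linter.unusedSectionVars false
set_option linter.unusedVariables false

namespace Cfsg.Agent.Omega.NO3S.FarB.FOneGeo

open Subgroup Cfsg Cfsg.Agent.ZN

section instance_

open Cfsg.Agent.Omega.NO3S.PT Cfsg.Agent.Omega.NO3S.PtGeom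
open Cfsg.Agent.Omega.NO3S.PB.Geom (ws_sq_pt)
open Cfsg.Agent.Omega.NO3S.FarQ.FOneGeo (Geo)
open scoped Pointwise

variable {G : Type*} [Group G] [Finite G] {S : Sylow 2 G} {B P V Z : Subgroup G} (h : PB S B P V Z)
include h

theorem geo : Geo (X := Pt Z) (L := Pt V) PtGeom.inc (fun x => x.sg) (fun x => ws V x.sg) (fun l => l.sg) where
  inc_smul g x l hxl := cj_le_cj.2 hxl
  R_smul g x a ha := conj_mem_cj ha
  W_smul g x a ha := by
    rw [Pt.sg_smul, ws_cj]
    exact conj_mem_cj ha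
  V_smul g l a ha := conj_mem_cj ha
  exists_ne x := h.pt_ne_bot x.isCj
  ti x y a ha ha' h1 := Pt.ext (h.pts_eq x.isCj y.isCj ha ha' h1)
  R_le x l hxl := hxl
  V_le x l hxl := le_ws l.isCj hxl
  exists_line x := by
    obtain ⟨g, hg⟩ := x.exists_smul
    refine ⟨Pt.mk ⟨g, rfl⟩, ?_⟩
    show x.sg ≤ cj g V
    rw [hg]
    exact cj_le_cj.2 h.ZV
  comm x a ha b hb := (mem_centralizer_iff.1 (h.ws_comm x.isCj ha) b hb).symm
  sq x := PB.Geom.ws_sq_pt h x.isCj

end instance_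

end Cfsg.Agent.Omega.NO3S.FarB.FOneGeo
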