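import Cfsg.Agent.Omega.NO3S.FarQ.Real
import Cfsg.Agent.Omega.NO3S.PB.Syl

/-!
# NO-3S, `q ≥ 4`: the instance of `RD` over the `(R, B)`-frame (copy of `FarQ/Real.lean`)

* `exists_rd` : `PB S B P V Z`, (F1), (T6) and `|Z| ≥ 4` give `RD` at the base flag `(Z, V)`.
-/

set_option autoImplicit false
set_option linter.unusedSectionVars false

namespace Cfsg.Agent.Omega.NO3S.FarB

open Subgroup Cfsg Cfsg.Agent.ZN Cfsg.Agent.MinSimple.VModule Cfsg.Agent.Omega.NOThree.Pts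
open Cfsg.Agent.Omega.NO3S.FarQ
open Cfsg.Agent.Omega.NO3S.FarQ.Glue Cfsg.Agent.Omega.NO3S.PT Cfsg.Agent.Omega.NO3S.PtGeom
open Cfsg.Agent.Omega.NO3S.PB.Geom
open scoped Pointwise

universe u

variable {G : Type u} [Group G]

section

variable [Finite G] {S : Sylow 2 G} {B P V Z : Subgroup G} (h : PB S B P V Z)
include h

theorem line_base {X : Subgroup G} (hX : IsCj Z X) (hXV : X ≤ V) (hne : X ≠ Z) {v : G} (hv : v ∈ V) :
    ∃ r ∈ Z, ∃ r' ∈ X, v = r * r' := h.exists_mul h.isCj_self h.ZV hX hXV hne.symm hv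

set_option maxHeartbeats 1000000 in
/-- **The instance.** -/
theorem exists_rd (hf : ¬ kx V Z ≤ centralizer (V : Set G)) (hO : OmB B V)
    (hq : 4 ≤ Nat.card Z) :
    ∃ (H M K : Type u) (_ : Group H) (_ : CommGroup M) (_ : MulDistribMulAction H M) (_ : CommGroup K)
      (ρ : G → H) (π : G → M) (ζ : K →* G) (T : Subgroup H) (lam U : Subgroup M) (Kh : Subgroup (M →* K)),
      RD (inc (Z := Z) (V := V)) (fun x => x.sg) (fun x => ws V x.sg) (fun l => l.sg) (Pt.base Z) (Pt.base V)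
        B ρ π ζ T lam U Kh := by
  have D := PB.Geom.geom h hf hO
  have hWn := normalizer_le_ws V Z
  have hCn : centralizer (Z : Set G) ≤ normalizer (Z : Set G) := centralizer_le_normalizer _
  have hWcomm : ∀ a ∈ ws V Z, ∀ b ∈ ws V Z, a * b = b * a := fun a ha b hb =>
    (mem_centralizer_iff.1 (h.Wcomm ha) b hb).symm
  obtain ⟨H, M, iH, iM, iA, ρ, π, hρm, hρs, hρk, hπm, hπs, hπk, hact⟩ := exists_mod (C := centralizer (Z : Set G))
    (W := ws V Z) (R := Z) (fun c hc w hw => (mem_normalizer_iff.1 (hWn (hCn hc)) w).1 hw)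
    (fun c hc w hw => (mem_normalizer_iff.1 (hCn hc) w).1 hw) hWcomm
  obtain ⟨K, iK, ζ, hinj, hran⟩ := exists_group (Z := Z) fun a ha b hb => h.Vcomm (h.ZV ha) (h.ZV hb)
  have Re : Four.Real (fun x : Pt Z => x.sg) (fun x => ws V x.sg) (Pt.base Z) ρ π :=
    ⟨hρm, hρs, hρk, hπm, hπs, hπk, hact⟩
  have hran' : ∀ g, g ∈ (fun x : Pt Z => x.sg) (Pt.base Z) ↔ ∃ r, ζ r = g := hran
  have hVW : V ≤ ws V Z := h.V_le_ws h.ZV
  have hS : B ≤ centralizer (Z : Set G) := h.B_le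
  have hcen : ∀ {k}, k ∈ centralizer (Z : Set G) → ∀ z ∈ Z, k * z = z * k := fun hk z hz =>
    (mem_centralizer_iff.1 hk z hz).symm
  have hcm : ∀ {g w : G}, g ∈ centralizer (Z : Set G) → w ∈ ws V Z →
      (g * w * g⁻¹ * w⁻¹ ∈ Z ↔ ρ g • π w = π w) := fun hg hw => comm_mem_iff Re D hg hw
  let T : Subgroup H := im Re B hS
  let lam : Subgroup M := pim Re V hVW
  let U : Subgroup M := pim Re (IV V Z) h.IV_le_ws
  let Kh : Subgroup (M →* K) := khat (W := fun x : Pt Z => ws V x.sg) π hran'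
  have hlam : ∀ m, m ∈ lam ↔ ∃ v ∈ V, π v = m := fun m => Iff.rfl
  have hlam1 : ∀ v ∈ V, π v ≠ 1 → v ∉ Z := fun v hv hv1 hvZ => hv1 ((hπk v (hVW hv)).2 hvZ)
  have hKx : ∀ k ∈ kx V Z, k ∈ centralizer (Z : Set G) ∧ ∀ w ∈ ws V Z, k * w * k⁻¹ * w⁻¹ ∈ Z := fun k hk =>
    ⟨kx_le_cent hk, (mem_kx.1 hk).2⟩
  have hexK : ∀ k ∈ kx V Z, ∃ φ ∈ Kh, ∀ w ∈ ws V Z, k * w * k⁻¹ * w⁻¹ = ζ (φ (π w)) := fun k hk =>
    exists_khat Re hran' D hinj h.Z_le_ws (hKx k hk).1 (hKx k hk).2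
  have hfinH : Finite H := Finite.of_surjective ρ fun x => by
    obtain ⟨g, -, hg⟩ := hρs x
    exact ⟨g, hg⟩
  have hfinM : Finite M := Finite.of_surjective π fun x => by
    obtain ⟨g, -, hg⟩ := hπs x
    exact ⟨g, hg⟩
  -- cardinality of `lam`
  have hcard : Nat.card lam = Nat.card Z := by
    let φ : V →* M := MonoidHom.mk' (fun a => π a) (fun a b => hπm a (hVW a.2) b (hVW b.2))
    have h1 := Subgroup.card_mul_index φ.ker
    rw [Subgroup.index_ker] at h1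
    have h2 : φ.range = lam := by
      ext m
      constructor
      · rintro ⟨a, rfl⟩
        exact ⟨a, a.2, rfl⟩
      · rintro ⟨a, ha, rfl⟩
        exact ⟨⟨a, ha⟩, rfl⟩
    have h3 : Nat.card φ.ker = Nat.card Z := by
      refine Nat.card_congr ⟨fun x => ⟨x, ?_⟩, fun x => ⟨⟨x, h.ZV x.2⟩, ?_⟩, fun x => rfl, fun x => rfl⟩
      · exact (hπk _ (hVW x.1.2)).1 x.2
      · exact (hπk _ (hVW (h.ZV x.2))).2 x.2
    rw [h2, h3, h.card] at h1
    exact Nat.eq_of_mul_eq_mul_left Nat.card_pos h1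
  have hcardK : Nat.card K = Nat.card Z := by
    refine Nat.card_congr ⟨fun x => ⟨ζ x, (hran _).2 ⟨x, rfl⟩⟩, fun x => ((hran _).1 x.2).choose,
      fun x => ?_, fun x => ?_⟩
    · exact hinj ((hran (ζ x)).1 ((hran _).2 ⟨x, rfl⟩)).choose_spec
    · exact Subtype.ext ((hran _).1 x.2).choose_spec
  have hflag : Flag T lam U Kh := by
    refine ⟨hfinH, hfinM, ?_, ?_, hcardK.trans hcard.symm, ?_, ?_, ?_, hcard.symm ▸ hq, ?_, ?_, ?_, ?_, ?_, ?_,
      ?_, ?_, ?_⟩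
    · -- sq
      intro m
      obtain ⟨w, hw, rfl⟩ := hπs m
      rw [← hπm w hw w hw, h.ws_sq w hw]
      exact π_one Re
    · -- sqR
      intro r
      apply hinj
      rw [map_mul, map_one]
      exact h.Vsq _ (h.ZV ((hran _).2 ⟨r, rfl⟩))
    · -- faith
      intro x hx
      obtain ⟨g, hg, rfl⟩ := hρs x
      exact (hρk g hg).2 fun w hw => (hcm hg hw).2 (hx _)
    · -- two
      rintro ⟨_, s, hs, rfl⟩
      obtain ⟨k, hk⟩ := h.isPGroup_B ⟨s, hs⟩
      have hk' : s ^ 2 ^ k = 1 := congrArg Subtype.val hk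
      refine ⟨k, Subtype.ext ?_⟩
      show ρ s ^ 2 ^ k = 1
      have hpow : ∀ j : ℕ, ρ (s ^ j) = ρ s ^ j := by
        intro j
        induction j with
        | zero => rw [pow_zero, pow_zero, Re.one]
        | succ j ih => rw [pow_succ, pow_succ, hρm _ (pow_mem (hS hs) j) _ (hS hs), ih]
      rw [← hpow, hk', Re.one]
    · -- ndvd
      have : Fact (Nat.Prime 2) := ⟨Nat.prime_two⟩
      let f : centralizer (Z : Set G) →* H := MonoidHom.mk' (fun a => ρ a) (fun a b => hρm a a.2 b b.2)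
      have hfs : Function.Surjective f := fun x => by
        obtain ⟨g, hg, rfl⟩ := hρs x
        exact ⟨⟨g, hg⟩, rfl⟩
      obtain ⟨TB, hTB⟩ := h.exists_syl hS le_rfl
      let T' : Sylow 2 H := TB.mapSurjective hfs
      have hT' : (T' : Subgroup H) = T := by
        ext x
        have hx : x ∈ (T' : Subgroup H) ↔ x ∈ (TB : Subgroup (centralizer (Z : Set G))).map f := Iff.rfl
        rw [hx, hTB]
        constructor
        · rintro ⟨g, hg, rfl⟩
          exact ⟨g, mem_subgroupOf.1 hg, rfl⟩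
        · rintro ⟨g, hg, rfl⟩
          exact ⟨⟨g, hS hg⟩, mem_subgroupOf.2 hg, rfl⟩
      rw [← hT']
      exact T'.not_dvd_index
    · -- fix
      rintro _ ⟨s, hs, rfl⟩ _ ⟨v, hv, rfl⟩
      exact (hcm (hS hs) (hVW hv)).1 (h.act s hs v hv)
    · -- norm
      rintro x hx _ ⟨v, hv, rfl⟩
      obtain ⟨g, hg, rfl⟩ := hρs x
      have hSK : B ≤ normalizer ((kx V Z : Subgroup G) : Set G) :=
        h.B_le_N.trans (normalizer_le_kx V Z)
      have h1 : cj g B ≤ kx V Z ⊔ B := by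
        intro y hy
        rw [mem_cj] at hy
        have hyC : y ∈ centralizer (Z : Set G) := by
          have := mul_mem (mul_mem hg (hS hy)) (inv_mem hg)
          have e : g * (g⁻¹ * y * g) * g⁻¹ = y := by group
          rwa [e] at this
        have h2 : ρ g * ρ (g⁻¹ * y * g) * (ρ g)⁻¹ ∈ T := (mem_normalizer_iff.1 hx _).1 ⟨_, hy, rfl⟩
        have h3 : ρ g * ρ (g⁻¹ * y * g) * (ρ g)⁻¹ = ρ y := by
          have h4 := Re.conj hg (hS hy)
          rw [← h4]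
          congr 1; group
        rw [h3] at h2
        obtain ⟨s, hs, hs'⟩ := h2
        have h5 : y * s⁻¹ ∈ kx V Z := by
          have h6 : ρ (y * s⁻¹) = 1 := by
            rw [hρm y hyC s⁻¹ (inv_mem (hS hs)), Re.inv (hS hs), hs', mul_inv_cancel]
          have h7 := (hρk _ (mul_mem hyC (inv_mem (hS hs)))).1 h6
          exact mem_kx.2 ⟨fun z hz => hcen (mul_mem hyC (inv_mem (hS hs))) z hz, h7⟩
        have h8 : y = y * s⁻¹ * s := by group
        rw [h8]
        exact mul_mem (mem_sup_left h5) (mem_sup_right hs)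
      obtain ⟨b, hb, hbS⟩ := h.exists_conj (H := kx V Z ⊔ B) le_sup_right
        (sup_le (fun x hx => (hKx x hx).1) hS) h1
      rw [← SetLike.mem_coe, coe_mul_of_right_le_normalizer_left _ _ hSK] at hb
      obtain ⟨k, hk, s, hs, rfl⟩ := hb
      have h2 : k⁻¹ * g ∈ normalizer (B : Set G) := by
        have h3 : cj (k * s) B = cj g B := hbS
        rw [← cj_cj, cj_eq_iff.2 (le_normalizer hs)] at h3
        rw [← cj_eq_iff, ← cj_cj, ← h3, cj_cj, inv_mul_cancel, cj_one]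
      have hkC := (hKx k hk).1
      have h4 : ρ (k⁻¹ * g) = ρ g := by
        rw [hρm _ (inv_mem hkC) g hg, Re.inv hkC, (hρk k hkC).2 (hKx k hk).2, inv_one, one_mul]
      have h5 := (mem_normalizer_iff.1 (h.NB h2) v).1 hv
      refine ⟨_, h5, ?_⟩
      rw [hact _ (mul_mem (inv_mem hkC) hg) v (hVW hv), h4]
    · -- lin
      rintro _ ⟨v, hv, rfl⟩ hv1 x hx _ ⟨u, hu, rfl⟩
      obtain ⟨g, hg, rfl⟩ := hρs x
      have hvZ := hlam1 v hv hv1
      rw [← hcm hg (hVW hv)] at hx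
      rw [← hcm hg (hVW hu)]
      exact h.lin (hcen hg) hv hvZ hx u hu
    · -- gen
      intro N hN
      let E : Subgroup G :=
        { carrier := {w | w ∈ ws V Z ∧ π w ∈ N}
          one_mem' := ⟨one_mem _, by
            have e : π 1 = 1 := π_one Re
            rw [e]; exact one_mem _⟩
          mul_mem' := by
            rintro a b ⟨ha, ha'⟩ ⟨hb, hb'⟩
            exact ⟨mul_mem ha hb, by rw [hπm a ha b hb]; exact mul_mem ha' hb'⟩
          inv_mem' := by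
            rintro a ⟨ha, ha'⟩
            refine ⟨inv_mem ha, ?_⟩
            have e : π a⁻¹ = (π a)⁻¹ := π_inv Re ha
            rw [e]; exact inv_mem ha' }
      have hE : ws V Z ≤ E := by
        refine ws_le fun L hL hZL => ?_
        obtain ⟨c, hc, rfl⟩ := h.exists_cent_line hL hZL
        intro w hw
        refine ⟨le_ws hL hZL hw, ?_⟩
        have hw' := mem_cj.1 hw
        have e : c * (c⁻¹ * w * c) * c⁻¹ = w := by group
        have h1 := hact c hc _ (hVW hw')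
        rw [e] at h1
        rw [h1]
        exact hN _ _ ⟨_, hw', rfl⟩
      rw [eq_top_iff]
      intro m _
      obtain ⟨w, hw, rfl⟩ := hπs m
      exact (hE hw).2
    · -- le
      rintro _ ⟨v, hv, rfl⟩
      exact ⟨v, h.V_le_IV hv, rfl⟩
    · -- uu
      rintro _ ⟨u, hu, rfl⟩ huV _ ⟨v, hv, rfl⟩
      have huV' : u ∉ V := fun e => huV ⟨u, e, rfl⟩
      obtain ⟨c, -, hcV, hcu⟩ := h.F2 hf hO hu huV' hv
      have hcC : c ∈ centralizer (Z : Set G) := centralizer_le h.ZV hcV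
      refine ⟨ρ c, ?_⟩
      rw [← hact c hcC u (h.IV_le_ws hu)]
      have e : c * u * c⁻¹ = v * u := by rw [← hcu]; group
      rw [e, hπm v (hVW hv) u (h.IV_le_ws hu), mul_comm]
    · -- kh
      rintro φ ⟨k, hk, hk'⟩ x
      obtain ⟨g, hg, rfl⟩ := hρs x
      refine ⟨φ.comp (MulDistribMulAction.toMonoidHom M (ρ g)), ⟨g⁻¹ * k * g, mul_mem (mul_mem (inv_mem hg) hk) hg,
        fun w hw => ?_⟩, fun m => rfl⟩
      have h1 := hk' (g * w * g⁻¹) ((mem_normalizer_iff.1 (hWn (hCn hg)) w).1 hw)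
      have h2 : ζ (φ (π (g * w * g⁻¹))) ∈ Z := (hran _).2 ⟨_, rfl⟩
      have h3 := mem_centralizer_iff.1 (inv_mem hg) _ h2
      calc g⁻¹ * k * g * w * (g⁻¹ * k * g)⁻¹ * w⁻¹
          = g⁻¹ * (k * (g * w * g⁻¹) * k⁻¹ * (g * w * g⁻¹)⁻¹) * g := by group
        _ = ζ (φ (π (g * w * g⁻¹))) := by rw [h1, ← h3, inv_mul_cancel_right]
        _ = ζ ((φ.comp (MulDistribMulAction.toMonoidHom M (ρ g))) (π w)) := by
            rw [hact g hg w hw]; rfl
    · -- f1
      rintro _ ⟨v, hv, rfl⟩ hv1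
      have hvZ := hlam1 v hv hv1
      obtain ⟨z, hz, hz1⟩ := h.pt_ne_bot h.isCj_self
      obtain ⟨k, hk, -, hkv⟩ := h.K_act hf hv hvZ hz
      obtain ⟨φ, hφ, hφk⟩ := hexK k hk
      refine ⟨φ, hφ, fun e => hz1 ?_⟩
      rw [← hkv, hφk v (hVW hv), e, map_one]
    · -- ti
      rintro φ ⟨k, hk, hk'⟩ _ ⟨v, hv, rfl⟩ hv1 hφ _ ⟨u, hu, rfl⟩
      have hvZ := hlam1 v hv hv1
      have h1 := hk' v (hVW hv)
      rw [hφ, map_one, mul_inv_eq_one, mul_inv_eq_iff_eq_mul] at h1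
      have h2 := h.mem_centralizer_of_fix (hcen hk) hv hvZ h1
      apply hinj
      rw [← hk' u (hVW hu), map_one, mul_inv_eq_one, mul_inv_eq_iff_eq_mul]
      exact (mem_centralizer_iff.1 h2 u hu).symm
  refine ⟨H, M, K, iH, iM, iA, iK, ρ, π, ζ, T, lam, U, Kh, ?_⟩
  refine { re := Re, pl := h.ZV, mlam := fun m => Iff.rfl, mU := ?_, cov := ?_, flag := hflag, sy := hS,
           mT := fun t => Iff.rfl, cen := ?_, inj := hinj, ran := hran, kh := fun φ hφ => hφ,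
           kh' := ?_, line := ?_, tr := ?_ }
  · -- mU
    intro m
    constructor
    · rintro ⟨u, hu, rfl⟩
      exact ⟨u, h.IV_le_ws hu, fun y hy => IV_le y.isCj hy hu, rfl⟩
    · rintro ⟨u, -, hu', rfl⟩
      refine ⟨u, ?_, rfl⟩
      rw [IV, Subgroup.mem_sInf]
      rintro _ ⟨Y, hY, hYV, rfl⟩
      exact hu' (Pt.mk hY) hYV
  · -- cov
    intro c hc
    obtain ⟨g, hg, rfl⟩ := hρs c
    obtain ⟨v, hv, hvZ⟩ := h.exists_out
    have h1 : g * v * g⁻¹ * v⁻¹ ∈ Z := (hcm hg (hVW hv)).2 (hc _ ⟨v, hv, rfl⟩)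
    obtain ⟨k, hk, -, hkv⟩ := h.K_act hf hv hvZ (Z.inv_mem h1)
    have hkC := (hKx k hk).1
    have h2 : k * g * v = v * (k * g) := by
      have e1 : g * v * g⁻¹ = (g * v * g⁻¹ * v⁻¹) * v := by group
      have e2 : k * v * k⁻¹ = (g * v * g⁻¹ * v⁻¹)⁻¹ * v := by rw [← hkv]; group
      have e3 := hcen hkC _ h1
      rw [← mul_inv_eq_iff_eq_mul]
      calc k * g * v * (k * g)⁻¹ = k * (g * v * g⁻¹) * k⁻¹ := by group
        _ = k * (g * v * g⁻¹ * v⁻¹) * v * k⁻¹ := by rw [e1]; group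
        _ = (g * v * g⁻¹ * v⁻¹) * (k * v * k⁻¹) := by rw [e3]; group
        _ = v := by rw [e2]; group
    refine ⟨k * g, h.mem_centralizer_of_fix (hcen (mul_mem hkC hg)) hv hvZ h2, ?_⟩
    rw [hρm k hkC g hg, (hρk k hkC).2 (hKx k hk).2, one_mul]
  · -- cen
    intro w hw hws
    exact h.omega w (h.ws_le_B hw) (h.ws_sq w hw) hws
  · -- kh'
    intro k hk hk'
    exact exists_khat Re hran' D hinj h.Z_le_ws hk hk'
  · -- line
    intro x hx hxp v hv
    exact line_base h x.isCj hx (fun e => hxp (Pt.ext e)) hv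
  · -- tr
    intro x y hx hxp hy hyp
    obtain ⟨k, hk, -, hk'⟩ := h.K_trans hf y.isCj hy x.isCj hx (fun e => hyp (Pt.ext e)) (fun e => hxp (Pt.ext e))
    exact ⟨k, (hKx k hk).1, (hKx k hk).2, Pt.ext hk'⟩

/-- every flag of `PtGeom` is conjugate to the base flag -/
theorem exists_smul_flag {x : Pt Z} {l : Pt V} (hxl : inc x l) : ∃ g : G, x = g • Pt.base Z ∧ l = g • Pt.base V := by
  obtain ⟨g, h1, h2⟩ := PB.Geom.exists_conj_flag h x.isCj l.isCj hxl
  exact ⟨g, Pt.ext h1, Pt.ext h2⟩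

end

end Cfsg.Agent.Omega.NO3S.FarB
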