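import Cfsg.Agent.Omega.NO3S.FarQ.FlagK
import Cfsg.Agent.Omega.NO3S.FarB.FOne
import Cfsg.Agent.Omega.NO3S.FarB.Real

/-!
# NO-3S, `q ≥ 4`: (F1) from the K-input, over the `(R, B)`-frame (copy of `FarQ/FlagK.lean`)

* `flagK_of` : `FlagK` from `PB`;
* `hf_of_kin` : (F1).
-/

set_option autoImplicit false
set_option linter.unusedSectionVars false

namespace Cfsg.Agent.Omega.NO3S.FarB

open Subgroup Cfsg Cfsg.Agent.ZN Cfsg.Agent.MinSimple.VModule Cfsg.Agent.Omega.NOThree.Pts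
open Cfsg.Agent.Omega.NO3S.FarQ (FlagK NoOv PSall KNO KPS Img Real exists_mod exists_group)
open Cfsg.Agent.Omega.NO3S.FarQ.Glue Cfsg.Agent.Omega.NO3S.PT Cfsg.Agent.Omega.NO3S.PtGeom
open scoped Pointwise

universe u

variable {G : Type u} [Group G]

section

variable [Finite G] {S : Sylow 2 G} {B P V Z : Subgroup G} (h : PB S B P V Z)
include h

/-- the geometry without (F1): conjugation by `C_G(Z)` -/
theorem norm_ws {g w : G} (hg : g ∈ centralizer (Z : Set G)) (hw : w ∈ ws V Z) : g * w * g⁻¹ ∈ ws V Z :=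
  (mem_normalizer_iff.1 (normalizer_le_ws V Z (centralizer_le_normalizer _ hg)) w).1 hw

theorem real_one {H M : Type*} [Group H] [CommGroup M] [MulDistribMulAction H M] {ρ : G → H} {π : G → M}
    (r : Real V Z ρ π) : π 1 = 1 := (r.kerπ 1 (one_mem _)).2 (one_mem _)

theorem real_inv {H M : Type*} [Group H] [CommGroup M] [MulDistribMulAction H M] {ρ : G → H} {π : G → M}
    (r : Real V Z ρ π) {v : G} (hv : v ∈ ws V Z) : π v⁻¹ = (π v)⁻¹ := by
  have h4 := r.mulπ v hv v⁻¹ (inv_mem hv)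
  rw [mul_inv_cancel, real_one h r] at h4
  exact (inv_eq_of_mul_eq_one_right h4.symm).symm

theorem real_comm {H M : Type*} [Group H] [CommGroup M] [MulDistribMulAction H M] {ρ : G → H} {π : G → M}
    (r : Real V Z ρ π) {g w : G} (hg : g ∈ centralizer (Z : Set G)) (hw : w ∈ ws V Z) :
    g * w * g⁻¹ * w⁻¹ ∈ Z ↔ ρ g • π w = π w := by
  have h1 := norm_ws h hg hw
  rw [← r.kerπ _ (mul_mem h1 (inv_mem hw)), r.mulπ _ h1 _ (inv_mem hw), r.act g hg w hw, real_inv h r hw,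
    mul_inv_eq_one]

theorem real_ρone {H M : Type*} [Group H] [CommGroup M] [MulDistribMulAction H M] {ρ : G → H} {π : G → M}
    (r : Real V Z ρ π) : ρ 1 = 1 := (r.kerρ 1 (one_mem _)).2 (one_mem _)

theorem real_ρinv {H M : Type*} [Group H] [CommGroup M] [MulDistribMulAction H M] {ρ : G → H} {π : G → M}
    (r : Real V Z ρ π) {g : G} (hg : g ∈ centralizer (Z : Set G)) : ρ g⁻¹ = (ρ g)⁻¹ := by
  have h4 := r.mulρ g hg g⁻¹ (inv_mem hg)
  rw [mul_inv_cancel, real_ρone h r] at h4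
  exact (inv_eq_of_mul_eq_one_right h4.symm).symm

/-- **`FlagK` from `PB`.** -/
theorem flagK_of {H M : Type*} [Group H] [CommGroup M] [MulDistribMulAction H M] {ρ : G → H} {π : G → M}
    (r : Real V Z ρ π)
    (hq : 4 ≤ Nat.card Z) {T : Subgroup H} (hT : ∀ x, x ∈ T ↔ ∃ s ∈ B, ρ s = x)
    {lam : Subgroup M} (hlam : ∀ m, m ∈ lam ↔ ∃ v ∈ V, π v = m) : FlagK T lam := by
  have hVW : V ≤ ws V Z := h.V_le_ws h.ZV
  have hS : B ≤ centralizer (Z : Set G) := h.B_le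
  have hcen : ∀ {k}, k ∈ centralizer (Z : Set G) → ∀ z ∈ Z, k * z = z * k := fun hk z hz =>
    (mem_centralizer_iff.1 hk z hz).symm
  have hcm : ∀ {g w : G}, g ∈ centralizer (Z : Set G) → w ∈ ws V Z →
      (g * w * g⁻¹ * w⁻¹ ∈ Z ↔ ρ g • π w = π w) := fun hg hw => real_comm h r hg hw
  have hlam1 : ∀ v ∈ V, π v ≠ 1 → v ∉ Z := fun v hv hv1 hvZ => hv1 ((r.kerπ v (hVW hv)).2 hvZ)
  have hKx : ∀ k ∈ kx V Z, k ∈ centralizer (Z : Set G) := fun k hk => kx_le_cent hk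
  have hcard : Nat.card lam = Nat.card Z := by
    let φ : V →* M := MonoidHom.mk' (fun a => π a) (fun a b => r.mulπ a (hVW a.2) b (hVW b.2))
    have h1 := Subgroup.card_mul_index φ.ker
    rw [Subgroup.index_ker] at h1
    have h2 : φ.range = lam := by
      ext m
      rw [hlam]
      constructor
      · rintro ⟨a, rfl⟩
        exact ⟨a, a.2, rfl⟩
      · rintro ⟨a, ha, rfl⟩
        exact ⟨⟨a, ha⟩, rfl⟩
    have h3 : Nat.card φ.ker = Nat.card Z := by
      refine Nat.card_congr ⟨fun x => ⟨x, ?_⟩, fun x => ⟨⟨x, h.ZV x.2⟩, ?_⟩, fun x => rfl, fun x => rfl⟩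
      · exact (r.kerπ _ (hVW x.1.2)).1 x.2
      · exact (r.kerπ _ (hVW (h.ZV x.2))).2 x.2
    rw [h2, h3, h.card] at h1
    exact Nat.eq_of_mul_eq_mul_left Nat.card_pos h1
  refine ⟨?_, ?_, ?_, ?_, ?_, ?_, hcard.symm ▸ hq, ?_, ?_, ?_, ?_⟩
  · exact Finite.of_surjective ρ fun x => by
      obtain ⟨g, -, hg⟩ := r.surjρ x
      exact ⟨g, hg⟩
  · exact Finite.of_surjective π fun x => by
      obtain ⟨g, -, hg⟩ := r.surjπ x
      exact ⟨g, hg⟩
  · intro m
    obtain ⟨w, hw, rfl⟩ := r.surjπ m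
    rw [← r.mulπ w hw w hw, h.ws_sq w hw]
    exact real_one h r
  · intro x hx
    obtain ⟨g, hg, rfl⟩ := r.surjρ x
    exact (r.kerρ g hg).2 (mem_kx.2 ⟨hcen hg, fun w hw => (hcm hg hw).2 (hx _)⟩)
  · rintro ⟨x, hx⟩
    obtain ⟨s, hs, rfl⟩ := (hT x).1 hx
    obtain ⟨k, hk⟩ := h.isPGroup_B ⟨s, hs⟩
    have hk' : s ^ 2 ^ k = 1 := congrArg Subtype.val hk
    refine ⟨k, Subtype.ext ?_⟩
    show ρ s ^ 2 ^ k = 1
    have hpow : ∀ j : ℕ, ρ (s ^ j) = ρ s ^ j := by
      intro j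
      induction j with
      | zero => rw [pow_zero, pow_zero, real_ρone h r]
      | succ j ih => rw [pow_succ, pow_succ, r.mulρ _ (pow_mem (hS hs) j) _ (hS hs), ih]
    rw [← hpow, hk', real_ρone h r]
  · have : Fact (Nat.Prime 2) := ⟨Nat.prime_two⟩
    let f : centralizer (Z : Set G) →* H := MonoidHom.mk' (fun a => ρ a) (fun a b => r.mulρ a a.2 b b.2)
    have hfs : Function.Surjective f := fun x => by
      obtain ⟨g, hg, rfl⟩ := r.surjρ x
      exact ⟨⟨g, hg⟩, rfl⟩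
    obtain ⟨TB, hTB⟩ := h.exists_syl hS le_rfl
    let T' : Sylow 2 H := TB.mapSurjective hfs
    have hT' : (T' : Subgroup H) = T := by
      ext x
      have hx : x ∈ (T' : Subgroup H) ↔ x ∈ (TB : Subgroup (centralizer (Z : Set G))).map f := Iff.rfl
      rw [hx, hTB, hT]
      constructor
      · rintro ⟨g, hg, rfl⟩
        exact ⟨g, mem_subgroupOf.1 hg, rfl⟩
      · rintro ⟨g, hg, rfl⟩
        exact ⟨⟨g, hS hg⟩, mem_subgroupOf.2 hg, rfl⟩
    have hfin : Finite H := Finite.of_surjective f hfs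
    rw [← hT']
    exact T'.not_dvd_index
  · intro x hx a ha
    obtain ⟨s, hs, rfl⟩ := (hT x).1 hx
    obtain ⟨v, hv, rfl⟩ := (hlam a).1 ha
    exact (hcm (hS hs) (hVW hv)).1 (h.act s hs v hv)
  · intro x hx a ha
    obtain ⟨v, hv, rfl⟩ := (hlam a).1 ha
    obtain ⟨g, hg, rfl⟩ := r.surjρ x
    have hSK : B ≤ normalizer ((kx V Z : Subgroup G) : Set G) :=
      h.B_le_N.trans (normalizer_le_kx V Z)
    have h1 : cj g B ≤ kx V Z ⊔ B := by
      intro y hy
      rw [mem_cj] at hy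
      have hyC : y ∈ centralizer (Z : Set G) := by
        have := mul_mem (mul_mem hg (hS hy)) (inv_mem hg)
        have e : g * (g⁻¹ * y * g) * g⁻¹ = y := by group
        rwa [e] at this
      have h2 : ρ g * ρ (g⁻¹ * y * g) * (ρ g)⁻¹ ∈ T := (mem_normalizer_iff.1 hx _).1 ((hT _).2 ⟨_, hy, rfl⟩)
      have h3 : ρ g * ρ (g⁻¹ * y * g) * (ρ g)⁻¹ = ρ y := by
        rw [← r.mulρ g hg _ (hS hy), ← real_ρinv h r hg,
          ← r.mulρ _ (mul_mem hg (hS hy)) _ (inv_mem hg)]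
        congr 1; group
      rw [h3] at h2
      obtain ⟨s, hs, hs'⟩ := (hT _).1 h2
      have h5 : y * s⁻¹ ∈ kx V Z := by
        rw [← r.kerρ _ (mul_mem hyC (inv_mem (hS hs))), r.mulρ y hyC s⁻¹ (inv_mem (hS hs)),
          real_ρinv h r (hS hs), hs', mul_inv_cancel]
      have h8 : y = y * s⁻¹ * s := by group
      rw [h8]
      exact mul_mem (mem_sup_left h5) (mem_sup_right hs)
    obtain ⟨b, hb, hbS⟩ := h.exists_conj (H := kx V Z ⊔ B) le_sup_right
      (sup_le (fun x hx => hKx x hx) hS) h1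
    rw [← SetLike.mem_coe, coe_mul_of_right_le_normalizer_left _ _ hSK] at hb
    obtain ⟨k, hk, s, hs, rfl⟩ := hb
    have h2 : k⁻¹ * g ∈ normalizer (B : Set G) := by
      have h3 : cj (k * s) B = cj g B := hbS
      rw [← cj_cj, cj_eq_iff.2 (le_normalizer hs)] at h3
      rw [← cj_eq_iff, ← cj_cj, ← h3, cj_cj, inv_mul_cancel, cj_one]
    have hkC := hKx k hk
    have h4 : ρ (k⁻¹ * g) = ρ g := by
      rw [r.mulρ _ (inv_mem hkC) g hg, real_ρinv h r hkC, (r.kerρ k hkC).2 hk, inv_one, one_mul]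
    have h5 := (mem_normalizer_iff.1 (h.NB h2) v).1 hv
    refine (hlam _).2 ⟨_, h5, ?_⟩
    rw [r.act _ (mul_mem (inv_mem hkC) hg) v (hVW hv), h4]
  · intro a ha hv1 x hx b hb
    obtain ⟨v, hv, rfl⟩ := (hlam a).1 ha
    obtain ⟨u, hu, rfl⟩ := (hlam b).1 hb
    obtain ⟨g, hg, rfl⟩ := r.surjρ x
    have hvZ := hlam1 v hv hv1
    rw [← hcm hg (hVW hv)] at hx
    rw [← hcm hg (hVW hu)]
    exact h.lin (hcen hg) hv hvZ hx u hu
  · intro N hN
    let E : Subgroup G :=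
      { carrier := {w | w ∈ ws V Z ∧ π w ∈ N}
        one_mem' := ⟨one_mem _, by
          rw [real_one h r]; exact one_mem _⟩
        mul_mem' := by
          rintro a b ⟨ha, ha'⟩ ⟨hb, hb'⟩
          exact ⟨mul_mem ha hb, by rw [r.mulπ a ha b hb]; exact mul_mem ha' hb'⟩
        inv_mem' := by
          rintro a ⟨ha, ha'⟩
          refine ⟨inv_mem ha, ?_⟩
          rw [real_inv h r ha]; exact inv_mem ha' }
    have hE : ws V Z ≤ E := by
      refine ws_le fun L hL hZL => ?_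
      obtain ⟨c, hc, rfl⟩ := h.exists_cent_line hL hZL
      intro w hw
      refine ⟨le_ws hL hZL hw, ?_⟩
      have hw' := mem_cj.1 hw
      have e : c * (c⁻¹ * w * c) * c⁻¹ = w := by group
      have h1 := r.act c hc _ (hVW hw')
      rw [e] at h1
      rw [h1]
      exact hN _ _ ((hlam _).2 ⟨_, hw', rfl⟩)
    rw [eq_top_iff]
    intro m _
    obtain ⟨w, hw, rfl⟩ := r.surjπ m
    exact (hE hw).2

/-- a realisation exists -/
theorem exists_real : ∃ (H M : Type u) (_ : Group H) (_ : CommGroup M) (_ : MulDistribMulAction H M)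
    (ρ : G → H) (π : G → M), Real V Z ρ π := by
  have hWn := normalizer_le_ws V Z
  have hCn : centralizer (Z : Set G) ≤ normalizer (Z : Set G) := centralizer_le_normalizer _
  obtain ⟨H, M, iH, iM, iA, ρ, π, hρm, hρs, hρk, hπm, hπs, hπk, hact⟩ := exists_mod (C := centralizer (Z : Set G))
    (W := ws V Z) (R := Z) (fun c hc w hw => (mem_normalizer_iff.1 (hWn (hCn hc)) w).1 hw)
    (fun c hc w hw => (mem_normalizer_iff.1 (hCn hc) w).1 hw)
    (fun a ha b hb => (mem_centralizer_iff.1 (h.Wcomm ha) b hb).symm)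
  refine ⟨H, M, iH, iM, iA, ρ, π, hρm, hρs, fun a ha => ?_, hπm, hπs, hπk, hact⟩
  rw [hρk a ha, mem_kx]
  exact ⟨fun h1 => ⟨fun x hx => (mem_centralizer_iff.1 ha x hx).symm, h1⟩, fun h1 => h1.2⟩

/-- **(F1) from the K-input.** -/
theorem hf_of_kin (hq : 4 ≤ Nat.card Z)
    {n : ℕ} (hn : 1 ≤ n) {x y : Pt Z}
    (hc : Crit (inc (Z := Z) (V := V)) (fun x : Pt Z => ws V x.sg) n x y)
    (hNO : KNO.{u} (fun H _ => Img (centralizer (Z : Set G)) H))
    (hPS : KPS.{u} (fun H _ => Img (centralizer (Z : Set G)) H)) : ¬ kx V Z ≤ centralizer (V : Set G) := by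
  obtain ⟨H, M, iH, iM, iA, ρ, π, r⟩ := exists_real h
  let T : Subgroup H := FOne.tt h r
  have hT : ∀ x, x ∈ T ↔ ∃ s ∈ B, ρ s = x := fun x => FarQ.FOne.mem_img r
  have hWm : ∀ v ∈ V, v ∈ ws V Z := fun v hv => h.V_le_ws h.ZV hv
  let lam : Subgroup M := (V.subgroupOf (ws V Z)).map (FarQ.FOne.ph r)
  have hlam : ∀ m, m ∈ lam ↔ ∃ v ∈ V, π v = m := fun m => FOne.ph_V_mem h r
  have hK := flagK_of h r hq hT hlam
  obtain ⟨K, iK, ζ, hinj, hran⟩ := exists_group (Z := Z) fun a ha b hb => h.Vcomm (h.ZV ha) (h.ZV hb)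
  have hsq : ∀ r : K, r * r = 1 := by
    intro r
    apply hinj
    rw [map_mul, map_one]
    exact h.Vsq _ (h.ZV ((hran _).2 ⟨r, rfl⟩))
  have hcard : Nat.card K = Nat.card lam := by
    have h1 : Nat.card K = Nat.card Z := by
      refine Nat.card_congr ⟨fun x => ⟨ζ x, (hran _).2 ⟨x, rfl⟩⟩, fun x => ((hran _).1 x.2).choose,
        fun x => ?_, fun x => ?_⟩
      · exact hinj ((hran (ζ x)).1 ((hran _).2 ⟨x, rfl⟩)).choose_spec
      · exact Subtype.ext ((hran _).1 x.2).choose_spec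
    have h2 : Nat.card lam = Nat.card Z := by
      let φ : V →* M := MonoidHom.mk' (fun a => π a) (fun a b => r.mulπ a (hWm a a.2) b (hWm b b.2))
      have h1 := Subgroup.card_mul_index φ.ker
      rw [Subgroup.index_ker] at h1
      have h2 : φ.range = lam := by
        ext m
        rw [hlam]
        constructor
        · rintro ⟨a, rfl⟩
          exact ⟨a, a.2, rfl⟩
        · rintro ⟨a, ha, rfl⟩
          exact ⟨⟨a, ha⟩, rfl⟩
      have h3 : Nat.card φ.ker = Nat.card Z := by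
        refine Nat.card_congr ⟨fun x => ⟨x, ?_⟩, fun x => ⟨⟨x, h.ZV x.2⟩, ?_⟩, fun x => rfl, fun x => rfl⟩
        · exact (r.kerπ _ (hWm _ x.1.2)).1 x.2
        · exact (r.kerπ _ (hWm _ (h.ZV x.2))).2 x.2
      rw [h2, h3, h.card] at h1
      exact Nat.eq_of_mul_eq_mul_left Nat.card_pos h1
    rw [h1, h2]
  have hI : Img (centralizer (Z : Set G)) H := FarQ.img_of_real r
  obtain ⟨Pi, hPi⟩ := hPS H M K T lam hI hK hsq hcard
  exact FOne.hf_of h r hn hc hT hlam (hNO H M T lam hI hK) (FarQ.FOne.PSf.of_psq hPi.toPSq hPi.pf hPi.cent)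

end

end Cfsg.Agent.Omega.NO3S.FarB
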