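import Cfsg.Agent.Omega.NO3S.FarB.Node

/-!
# (F1), `q ≥ 4`, every stage: the socket `FOneB` from an abstract statement about `(H, W, R, V)`

* `RDat T A V R π` : `H` acts on `W`, centralises `R`, is faithful on `M = W / R`, `lam = V / R`, `C_W(T) ≤ R`, `A ≠ 1` exact
  in `O₂(C_H(lam))`, liftwise fixed points (helper81's `FOne.Q.Hyp` with `fixM` replaced by `cent`);
* `FOneR` : `RDat` is contradictory;
* **`fOneB_of_R`** : `MLK → FOneR → NO3S.FOneB K` (every stage, `n ≥ 1`).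
-/

set_option autoImplicit false
set_option linter.unusedSectionVars false

namespace Cfsg.Agent.Omega.NO3S.FarB

open Subgroup Cfsg Cfsg.Agent.Omega.NO3S.PT
open Cfsg.Agent.ZN (o2)
open Cfsg.Agent.MinSimple.VModule (o2_le)
open Cfsg.Agent.Omega.NO3S.PtGeom (Pt)
open Cfsg.Agent.Omega.NO3S.FarQ (FlagK NoOv KNO Img Exact zm fixer kno_of_mlk)
open Cfsg.Agent.Omega.NO3S.FarQ.FOne (Off ph rh img mem_img mem_img_of card_img rho_one rho_inv eq_of_rho
  cent_conj pi_inv)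
open Cfsg.Agent.Omega.ML.Final (MLK)
open Cfsg.Agent.Omega.Frame (Cls)
open Cfsg.Agent.ClassTwoFusion.Quad (cv mem_cv cv_anti)
open scoped Pointwise

universe u

/-- **The data at the point `R`** (every stage). -/
structure RDat {H W M : Type u} [Group H] [CommGroup W] [MulDistribMulAction H W] [CommGroup M]
    [MulDistribMulAction H M] (T A : Subgroup H) (V R : Subgroup W) (π : W →* M) : Prop where
  known : IsKGroupWith IsKnownSimple' H
  finW : Finite W
  sq : ∀ w : W, w * w = 1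
  surj : Function.Surjective π
  dat : FarQ.FOneAbs.Dat T V R π
  flag : FlagK T (V.map π)
  full : ∀ v ∈ V, v ∉ R → ∀ r ∈ R, ∃ t ∈ T, (t • v) * v⁻¹ = r
  /-- `C_W(T) ≤ R` -/
  cent : ∀ w : W, (∀ t ∈ T, t • w = w) → w ∈ R
  ex : Exact (V.map π) A
  AV : ∀ x ∈ A, ∀ v ∈ V, x • v = v
  fix : ∀ w : W, (∀ x ∈ A, x • π w = π w) → ∀ x ∈ A, x • w = w

/-- **(F1) for `q ≥ 4`, abstract form, every stage.** -/
def FOneR : Prop :=
  ∀ (H W M : Type u) [Group H] [CommGroup W] [MulDistribMulAction H W] [CommGroup M] [MulDistribMulAction H M]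
    (T A : Subgroup H) (V R : Subgroup W) (π : W →* M), RDat T A V R π → False

section main

variable {G : Type u} [Group G] [Finite G] {S : Sylow 2 G} {B₀ P V Z : Subgroup G} (h : PB S B₀ P V Z)
variable {H M : Type u} [Group H] [CommGroup M] [MulDistribMulAction H M] {ρ : G → H} {π : G → M}
include h

/-- **The contradiction at the base flag.** -/
theorem false_baseR (r : FarQ.Real V Z ρ π) (hR : FOneR.{u}) (hKG : IsKGroupWith IsKnownSimple' H)
    (hf : kx V Z ≤ centralizer (V : Set G)) {B : Subgroup G} (hB : Off V V Z B)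
    (hne : ¬ B ≤ centralizer (ws V Z : Set G))
    (hle : (centralizer (B : Set G)).relIndex (ws V Z) ≤ (centralizer (ws V Z : Set G)).relIndex B)
    (hNO : ∀ A : Subgroup H, A ≤ o2 (fixer ((V.subgroupOf (ws V Z)).map (ph r))) →
      (∀ a ∈ A, ∀ b ∈ A, a * b = b * a) → (∀ a ∈ A, a * a = 1) →
      (∀ a ∈ A, ∀ b ∈ A, ∀ m : M, b • ((a • m) * m⁻¹) = (a • m) * m⁻¹) → Nat.card A ≤ (zm M A).index)
    (hF : FlagK (FOne.tt h r) ((V.subgroupOf (ws V Z)).map (ph r))) : False := by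
  have hBC := FOne.Off.le_cent h hB
  set A := img r hBC with hA
  have hkc := FOne.kx_le h hf
  have hke := FOne.kx_eq h hf
  have hcard : Nat.card A = (centralizer (ws V Z : Set G)).relIndex B := by rw [hA, card_img r hBC, hke]
  have hcomm : ∀ a ∈ A, ∀ b ∈ A, a * b = b * a := by
    intro x hx y hy
    obtain ⟨a, ha, rfl⟩ := (mem_img r).1 hx
    obtain ⟨b, hb, rfl⟩ := (mem_img r).1 hy
    rw [← r.mulρ _ (hBC ha) _ (hBC hb), ← r.mulρ _ (hBC hb) _ (hBC ha), hB.comm a ha b hb]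
  have hsq : ∀ a ∈ A, a * a = 1 := by
    intro x hx
    obtain ⟨a, ha, rfl⟩ := (mem_img r).1 hx
    rw [← r.mulρ _ (hBC ha) _ (hBC ha), hB.sq a ha, rho_one r]
  have hact : ∀ a ∈ B, ∀ w ∈ ws V Z, (ρ a • π w) * (π w)⁻¹ = π (a * w * a⁻¹ * w⁻¹) := by
    intro a ha w hw
    rw [← r.act a (hBC ha) w hw, ← pi_inv r hw, ← r.mulπ _ (cent_conj r (hBC ha) hw) _ (inv_mem hw)]
  have hcW : ∀ a ∈ B, ∀ w ∈ ws V Z, a * w * a⁻¹ * w⁻¹ ∈ ws V Z := fun a ha w hw =>
    mul_mem (cent_conj r (hBC ha) hw) (inv_mem hw)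
  have hquad : ∀ a ∈ A, ∀ b ∈ A, ∀ m : M, b • ((a • m) * m⁻¹) = (a • m) * m⁻¹ := by
    intro x hx y hy m
    obtain ⟨a, ha, rfl⟩ := (mem_img r).1 hx
    obtain ⟨b, hb, rfl⟩ := (mem_img r).1 hy
    obtain ⟨w, hw, rfl⟩ := r.surjπ m
    rw [hact a ha w hw, ← r.act b (hBC hb) _ (hcW a ha w hw), hB.comm b hb _ (hB.nor a ha w hw),
      mul_inv_cancel_right]
  have hAle : A ≤ o2 (fixer ((V.subgroupOf (ws V Z)).map (ph r))) := FOne.img_le h r hB
  have h1 := hNO A hAle hcomm hsq hquad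
  have hsurj : Function.Surjective (ph r) := fun m => by
    obtain ⟨w, hw, rfl⟩ := r.surjπ m
    exact ⟨⟨w, hw⟩, rfl⟩
  have h2 := index_comap_of_surjective (zm M A) hsurj
  have h3 : (centralizer (B : Set G)).subgroupOf (ws V Z) ≤ (zm M A).comap (ph r) := by
    intro w hw
    rw [mem_comap, mem_cv]
    intro x hx
    obtain ⟨a, ha, rfl⟩ := (mem_img r).1 hx
    have h4 := hact a ha w w.2
    have h5 : a * w * a⁻¹ * (w : G)⁻¹ = 1 := by
      have h6 := mem_centralizer_iff.1 (mem_subgroupOf.1 hw) a ha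
      rw [h6, mul_inv_cancel_right, mul_inv_cancel]
    rw [h5] at h4
    have h7 : π 1 = 1 := (ph r).map_one
    rw [h7, mul_inv_eq_one] at h4
    exact h4
  have h4 : ((zm M A).comap (ph r)).index ≤ ((centralizer (B : Set G)).subgroupOf (ws V Z)).index :=
    Nat.le_of_dvd (Nat.pos_of_ne_zero index_ne_zero_of_finite) (index_dvd_of_le h3)
  have h5 : ((centralizer (B : Set G)).subgroupOf (ws V Z)).index ≤ Nat.card A := by
    rw [hcard]; exact hle
  have h6 : (zm M A).comap (ph r) ≤ (centralizer (B : Set G)).subgroupOf (ws V Z) :=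
    FOne.le_of_index_le h3 (by omega)
  have hex : Exact ((V.subgroupOf (ws V Z)).map (ph r)) A := by
    refine ⟨fun e => hne fun b hb => ?_, hAle, hcomm, hsq, hquad, by omega⟩
    have h7 : ρ b ∈ A := mem_img_of r hb
    rw [e, mem_bot] at h7
    exact hkc ((r.kerρ b (hBC hb)).1 h7)
  -- the action on `W`
  choose σ hσ1 hσ2 using r.surjρ
  let _ : CommGroup (ws V Z) :=
    { (inferInstance : Group (ws V Z)) with
      mul_comm := fun a b => Subtype.ext (mem_centralizer_iff.1 (h.Wcomm b.2) a a.2) }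
  let _ : MulDistribMulAction H (ws V Z) :=
    { smul := fun x w => ⟨σ x * w * (σ x)⁻¹, cent_conj r (hσ1 x) w.2⟩
      one_smul := fun w => Subtype.ext (by
        show σ 1 * (w : G) * (σ 1)⁻¹ = w
        rw [eq_of_rho r (hσ1 1) (one_mem _) hkc ((hσ2 1).trans (rho_one r).symm) w.2]
        group)
      mul_smul := fun x y w => Subtype.ext (by
        show σ (x * y) * (w : G) * (σ (x * y))⁻¹ = σ x * (σ y * w * (σ y)⁻¹) * (σ x)⁻¹
        rw [eq_of_rho r (hσ1 (x * y)) (mul_mem (hσ1 x) (hσ1 y)) hkc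
          (by rw [hσ2, r.mulρ _ (hσ1 x) _ (hσ1 y), hσ2, hσ2]) w.2]
        group)
      smul_mul := fun x w w' => Subtype.ext (by
        show σ x * ((w : G) * w') * (σ x)⁻¹ = σ x * w * (σ x)⁻¹ * (σ x * w' * (σ x)⁻¹)
        group)
      smul_one := fun x => Subtype.ext (by
        show σ x * (1 : G) * (σ x)⁻¹ = 1
        group) }
  have hsm : ∀ a ∈ centralizer (Z : Set G), ∀ w : ws V Z, ((ρ a • w : ws V Z) : G) = a * w * a⁻¹ := by
    intro a ha w
    show σ (ρ a) * (w : G) * (σ (ρ a))⁻¹ = a * w * a⁻¹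
    exact eq_of_rho r (hσ1 _) ha hkc (hσ2 _) w.2
  have D : FarQ.FOneAbs.Dat (FOne.tt h r) (V.subgroupOf (ws V Z)) (Z.subgroupOf (ws V Z)) (ph r) := by
    refine ⟨FOne.finite_H r, fun w => r.kerπ w w.2, ?_, ?_, ?_, ?_, ?_, ?_, ?_⟩
    · intro x w
      show π (σ x * w * (σ x)⁻¹) = x • π w
      rw [r.act _ (hσ1 x) w w.2, hσ2]
    · intro x w hw
      refine Subtype.ext ?_
      show σ x * (w : G) * (σ x)⁻¹ = w
      rw [← mem_centralizer_iff.1 (hσ1 x) w hw, mul_inv_cancel_right]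
    · intro t ht v hv
      obtain ⟨s, hs, rfl⟩ := (mem_img r).1 ht
      rw [mem_subgroupOf]
      show ((ρ s • v : ws V Z) : G) * (v : G)⁻¹ ∈ Z
      rw [hsm s (h.B_le hs)]
      exact h.act s hs v hv
    · intro w hw
      exact h.ZV hw
    · intro t ht v hv hvZ e u hu
      obtain ⟨s, hs, rfl⟩ := (mem_img r).1 ht
      have e1 := congrArg Subtype.val e
      rw [hsm s (h.B_le hs)] at e1
      refine Subtype.ext ?_
      rw [hsm s (h.B_le hs)]
      have e2 := h.free s hs v hv (fun e => hvZ e) (mul_inv_eq_iff_eq_mul.1 e1) u hu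
      rw [e2, mul_inv_cancel_right]
    · obtain ⟨Y, hY, hYV, hYne⟩ := h.exists_second h.isCj_self h.ZV
      obtain ⟨v, hv, hv1⟩ := h.pt_ne_bot hY
      have hvZ : v ∉ Z := fun e => hYne (h.pts_eq hY h.isCj_self hv e hv1)
      obtain ⟨z, hz, hz1⟩ := h.pt_ne_bot h.isCj_self
      obtain ⟨s, hs, hsz⟩ := h.full v (hYV hv) hvZ z hz
      refine ⟨ρ s, mem_img_of r hs, ⟨v, h.V_le_ws h.ZV (hYV hv)⟩, hYV hv, fun e => hz1 ?_⟩
      have e1 := congrArg Subtype.val e
      rw [hsm s (h.B_le hs)] at e1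
      rw [← hsz, mul_inv_eq_one]
      exact e1
    · intro x hx v hv
      have h7 := FOne.norm_V h r hf (hσ1 x) (by rw [hσ2]; exact hx)
      rw [mem_subgroupOf]
      show σ x * (v : G) * (σ x)⁻¹ ∈ V
      exact (mem_normalizer_iff.1 h7 v).1 hv
  refine hR H (ws V Z) M (FOne.tt h r) A (V.subgroupOf (ws V Z)) (Z.subgroupOf (ws V Z)) (ph r)
    { known := hKG
      finW := inferInstance
      sq := ?_
      surj := hsurj
      dat := D
      flag := hF
      full := ?_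
      cent := ?_
      ex := hex
      AV := ?_
      fix := ?_ }
  · intro w
    exact Subtype.ext (PB.Geom.ws_sq_pt h h.isCj_self w w.2)
  · intro v hv hvZ z hz
    obtain ⟨s, hs, e⟩ := h.full v hv (fun e => hvZ e) z hz
    refine ⟨ρ s, mem_img_of r hs, Subtype.ext ?_⟩
    show ((ρ s • v : ws V Z) : G) * (v : G)⁻¹ = z
    rw [hsm s (h.B_le hs)]
    exact e
  · intro w hw
    rw [mem_subgroupOf]
    refine h.omega w ?_ (PB.Geom.ws_sq_pt h h.isCj_self w w.2) fun s hs => ?_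
    · exact h.ws_le_B w.2
    · have e := congrArg Subtype.val (hw (ρ s) (mem_img_of r hs))
      rw [hsm s (h.B_le hs)] at e
      exact mul_inv_eq_iff_eq_mul.1 e
  · intro x hx v hv
    obtain ⟨b, hb, rfl⟩ := (mem_img r).1 hx
    refine Subtype.ext ?_
    rw [hsm b (hBC hb)]
    have h8 := mem_centralizer_iff.1 (o2_le _ (hB.le hb)) v hv
    rw [← h8, mul_inv_cancel_right]
  · intro w hw x hx
    obtain ⟨b, hb, rfl⟩ := (mem_img r).1 hx
    have h7 : w ∈ (zm M A).comap (ph r) := by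
      rw [mem_comap, mem_cv]
      exact hw
    have h8 := mem_centralizer_iff.1 (mem_subgroupOf.1 (h6 h7)) b hb
    refine Subtype.ext ?_
    rw [hsm b (hBC hb), h8, mul_inv_cancel_right]

/-- **(F1) for `q ≥ 4`** at a critical pair. -/
theorem hf_ofR (hML : MLK.{u, u}) (hR : FOneR.{u}) (hq : 4 ≤ Nat.card Z)
    (hKC : ∀ (H : Type u) [Group H], Img (centralizer (Z : Set G)) H → IsKGroup H) {n : ℕ} (hn : 1 ≤ n)
    {x y : Pt Z} (hc : NOThree.Pts.Crit (PtGeom.inc (Z := Z) (V := V)) (fun x : Pt Z => ws V x.sg) n x y) :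
    ¬ kx V Z ≤ centralizer (V : Set G) := by
  intro hf
  obtain ⟨H, M, iH, iM, iA, ρ, π, r⟩ := exists_real h
  let T : Subgroup H := FOne.tt h r
  have hT : ∀ x, x ∈ T ↔ ∃ s ∈ B₀, ρ s = x := fun x => FarQ.FOne.mem_img r
  let lam : Subgroup M := (V.subgroupOf (ws V Z)).map (FarQ.FOne.ph r)
  have hlam : ∀ m, m ∈ lam ↔ ∃ v ∈ V, π v = m := fun m => FOne.ph_V_mem h r
  have hK := flagK_of h r hq hT hlam
  have hI : Img (centralizer (Z : Set G)) H := FarQ.img_of_real r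
  have hKG : IsKGroup H := hKC H hI
  have hNO := kno_of_mlk hML H M T lam hKG hK
  obtain ⟨g, hg, hB⟩ := FOne.off_of_crit h hn hc
  obtain ⟨g', hg', hB'⟩ := FOne.off_of_crit h hn hc.symm
  have hb := hB.conj g⁻¹
  have hb' := hB'.conj g'⁻¹
  rw [cj_cj, cj_cj, inv_mul_cancel, cj_one, cj_one] at hb hb'
  have h1 := FOne.relIndex_le h r hf hb' hNO
  -- `|W_y : C(W_x)| ≤ |W_x : C(W_y)|`
  have e1 : cj g (cj g⁻¹ (ws V x.sg)) = ws V x.sg := by rw [cj_cj, mul_inv_cancel, cj_one]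
  have e2 : cj g' (cj g'⁻¹ (ws V y.sg)) = ws V y.sg := by rw [cj_cj, mul_inv_cancel, cj_one]
  have e3 : ws V y.sg = cj g (ws V Z) := by rw [hg, ws_cj]
  have e4 : ws V x.sg = cj g' (ws V Z) := by rw [hg', ws_cj]
  rw [← FOne.cent_relIndex_conj g' (ws V Z), ← FOne.cent_relIndex_conj g' (cj g'⁻¹ (ws V y.sg)), e2, ← e4] at h1
  refine false_baseR h r hR hKG hf hb ?_ ?_ hNO hK
  · intro hcon
    apply hc.ne
    intro a ha b hbm
    have h2 : ws V x.sg ≤ centralizer (ws V y.sg : Set G) := by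
      rw [← e1, e3, ← cj_centralizer, cj_le_cj]
      exact hcon
    exact (mem_centralizer_iff.1 (h2 ha) b hbm).symm
  · rw [← FOne.cent_relIndex_conj g (ws V Z), ← FOne.cent_relIndex_conj g (cj g⁻¹ (ws V x.sg)), e1, ← e3]
    exact h1

end main

/-- **The socket `FOneB`** (every stage) from (ML) and `FOneR`. -/
theorem fOneB_of_R {K : Cls.{u}} (hML : MLK.{u, u}) (hR : FOneR.{u}) : NO3S.FOneB K := by
  intro G _ _ _ S P h F _ _ _ hF _ B R hB n y hn hc
  exact Or.inl (hf_ofR hB.pb hML hR (hB.card.symm ▸ hF)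
    (fun H _ hI => FarQ.kgroup_of_img h.toHyp.ctx.kproper (centralizer_ne_top h.toHyp hB.pb.Zne) H hI) hn
    (PB.Geom.crit hB.pb hB.pb.V_eq hc))

end Cfsg.Agent.Omega.NO3S.FarB
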