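import Cfsg.Agent.Omega.NO3S.FarQ.Plug

/-!
# FarQ: `NS` for all flags, with a weaker hypothesis on involutions (copy of the end of `FarQ/Plug.lean`)

An involution which centralises the point `x` and fixes another point `y` on a line through `x`, centralises `y`
(`Inv`): this holds over the `(R, B)`-frame.
-/

set_option autoImplicit false
set_option linter.unusedSectionVars false

namespace Cfsg.Agent.Omega.NO3S.FarB.Plug

open Subgroup Cfsg Cfsg.Agent.ZN Cfsg.Agent.MinSimple.VModule Cfsg.Agent.Omega.NOThree.Pts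
open Cfsg.Agent.Omega.NO3S.FarQ Cfsg.Agent.Omega.NO3S.FarQ.Asm Cfsg.Agent.Omega.NO3S.FarQ.Glue
open Cfsg.Agent.Omega.NO3S.FarQ.Plug
open Cfsg.Agent.Omega.NO3S.PT (cj mem_cj conj_mem_cj)

variable {G X L : Type*} [Group G] [MulAction G X] [MulAction G L]
variable {inc : X → L → Prop} {R W : X → Subgroup G} {V : L → Subgroup G} {s t n : ℕ}
variable {H M K : Type*} [Group H] [CommGroup M] [MulDistribMulAction H M] [CommGroup K]

/-- involutions centralising a point and fixing another one on the same line -/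
def Inv (inc : X → L → Prop) (R : X → Subgroup G) : Prop :=
  ∀ (x y : X) (m : L), inc x m → inc y m → x ≠ y → ∀ g : G, g * g = 1 → g ∈ centralizer (R x : Set G) → g • y = y →
    ∀ u ∈ R y, g * u = u * g

section base

variable {p q y : X} {l : L} {ρ : G → H} {π : G → M} {T : Subgroup H} {lam U : Subgroup M}
  {Kh : Subgroup (M →* K)} {S : Subgroup G} {κ : G → K}
variable [Finite G] (D : Geom inc R W V s t) (F : RF inc R W V p l ρ π lam U)
  (E : Ext inc R W V p l ρ π T Kh S κ)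
include D F E

/-- **(4.0), the `G`-side**, from its abstract half. -/
theorem d_of (hinv : Inv inc R)
    (hp : ExP inc R W V n p q) (hn : 2 ≤ n) (hy : Walk inc (n - 1) q y) (hyl : inc y l)
    (hA : W q ≤ centralizer (R p : Set G)) {g : H}
    (h1 : ∃ a ∈ lam, ∃ α ∈ im F.re (W q) hA, α • g • a ≠ g • a)
    (h2 : im F.re (W q) hA ≤ closure {α | α ∈ im F.re (W q) hA ∧
      ((∀ a ∈ lam, α • g • a = g • a) ∨ Sep R W p ρ π (im F.re (W q) hA) lam g α)}) :
    ∃ x m, inc x m ∧ inc p m ∧ (∃ f ∈ W q, f • x ≠ x) ∧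
      W q ≤ closure {f | f ∈ W q ∧ (f • x = x ∨ ∀ a ∈ W x, a ∈ W (f • x) → a ∈ W p)} := by
  have Re := F.re
  have hyp : y ≠ p := hp.crit.symm.ne_last (by omega) hy
  have hc : Com W q y := hp.crit.symm.com_last (by omega) hy
  have F4 := flag D F E hyl hyp hc
  obtain ⟨c, hcR, rfl⟩ := Re.surj g
  have i1 : inc (c • y) (c • l) := D.inc_smul c _ _ hyl
  have i2 : inc p (c • l) := by
    have := D.inc_smul c _ _ F.pl
    rwa [Four.fix_p D hcR] at this
  -- lifts
  have lift : ∀ a ∈ lam, ∃ u ∈ R (c • y), π u = ρ c • a := by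
    intro a ha
    obtain ⟨r, hr, hra⟩ := Re.exists_lift D F4 (a := a) ((F.mlam a).1 ha)
    refine ⟨c * r * c⁻¹, D.R_smul c y r hr, ?_⟩
    rw [Re.act c hcR r (Four.R_le_Wp D hyl F.pl hr), hra]
  refine ⟨c • y, c • l, i1, i2, ?_, ?_⟩
  · obtain ⟨a, ha, _, ⟨f, hf, rfl⟩, hne⟩ := h1
    refine ⟨f, hf, fun h0 => hne ?_⟩
    obtain ⟨u, hu, hua⟩ := lift a ha
    have hpne : p ≠ c • y := fun e => hyp (by
      have h9 := Four.fix_p D hcR
      rw [← h9] at e
      exact (smul_left_cancel c e).symm)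
    have h3 := hinv p _ _ i2 i1 hpne f (D.sq q f hf) (hA hf) h0 u hu
    rw [← hua, ← Re.act f (hA hf) u (Four.R_le_Wp D i1 i2 hu), h3, mul_inv_cancel_right]
  · set B := closure {f | f ∈ W q ∧ (f • c • y = c • y ∨ ∀ a ∈ W (c • y), a ∈ W (f • c • y) → a ∈ W p)} with hB
    have hBW : B ≤ W q := (closure_le _).2 fun f hf => hf.1
    have key : im F.re (W q) hA ≤ im F.re B (hBW.trans hA) := by
      refine h2.trans ((closure_le _).2 ?_)
      rintro _ ⟨⟨f, hf, rfl⟩, h3⟩
      refine ⟨f, subset_closure ⟨hf, ?_⟩, rfl⟩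
      rcases h3 with h3 | ⟨a, ha, ha1, h, hh, g', hg', k1, k2, k3⟩
      · by_cases h4 : f • c • y = c • y
        · exact Or.inl h4
        · right
          obtain ⟨r, hr, hr1⟩ := D.exists_ne y
          have hu := D.R_smul c y r hr
          have huW := Four.R_le_Wp D i1 i2 hu
          have hm : f * (c * r * c⁻¹) * f⁻¹ * (c * r * c⁻¹)⁻¹ ∈ R p := by
            rw [comm_mem_iff Re D (hA hf) huW, Re.act c hcR r (Four.R_le_Wp D hyl F.pl hr)]
            exact h3 _ ((F.mlam _).2 ⟨r, D.R_le y l hyl hr, rfl⟩)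
          have h5 : f * (c * r * c⁻¹) * f⁻¹ ∈ V (c • l) := by
            have h6 := mul_mem (D.R_le p _ i2 hm) (D.R_le _ _ i1 hu)
            rwa [inv_mul_cancel_right] at h6
          obtain ⟨z, hz, hfz⟩ := D.cover _ _ h5
          have h6 : f • c • y = z := D.ti _ _ _ (D.R_smul f _ _ hu) hfz fun h0 =>
            hr1 (conj_eq_one_iff.1 (conj_eq_one_iff.1 h0))
          intro b hb hb'
          exact D.inf_le i1 (h6 ▸ hz) i2 (Ne.symm h4) ⟨hb, hb'⟩
      · right
        have h4 := Re.low D F4 (a := a) ((F.mlam a).1 ha) ha1 hcR hf (h := ρ c * h * (ρ c)⁻¹) (by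
          have e : (ρ c)⁻¹ * (ρ c * h * (ρ c)⁻¹) * ρ c = h := by group
          rw [e]
          refine Subgroup.closure_mono ?_ hh
          rintro _ ⟨d, hd, _, ⟨f', hf', rfl⟩, rfl⟩
          exact ⟨f', hf', d, fun a ha => hd a ((F.mlam a).2 ha), rfl⟩) rfl rfl hg' k1 k2 k3
        intro b hb hb'
        exact h4.2.2.2 ⟨hb, hb'⟩
    intro f hf
    obtain ⟨b, hb, hbf⟩ := key ⟨f, hf, rfl⟩
    have hbq := hBW hb
    have h3 : ρ (f * b⁻¹) = 1 := by
      rw [Re.mul f (hA hf) _ (inv_mem (hA hbq)), Re.inv (hA hbq), hbf, mul_inv_cancel]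
    have h4 := hp.good (f * b⁻¹) (mul_mem hf (inv_mem hbq))
      ((Re.ker _ (mul_mem (hA hf) (inv_mem (hA hbq)))).1 h3)
    have h5 : (f * b⁻¹) • c • y = c • y :=
      D.fix_of_centralizes fun r hr => h4 r (Four.R_le_Wp D i1 i2 hr)
    have h6 : f * b⁻¹ ∈ B := subset_closure ⟨mul_mem hf (inv_mem hbq), Or.inl h5⟩
    have h7 := mul_mem h6 hb
    rwa [inv_mul_cancel_right] at h7

/-- **(4.0)** -/
theorem d_base (hinv : Inv inc R)
    (hp : ExP inc R W V n p q) (hn : 2 ≤ n) (hy : Walk inc (n - 1) q y) (hyl : inc y l)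
    {Pi : Set (Subgroup H)} (hF : Flag T lam U Kh) (hP : PSq K T lam Pi) (hns : ¬ Single Pi lam) :
    ∃ x m, inc x m ∧ inc p m ∧ (∃ f ∈ W q, f • x ≠ x) ∧
      W q ≤ closure {f | f ∈ W q ∧ (f • x = x ∨ ∀ a ∈ W x, a ∈ W (f • x) → a ∈ W p)} := by
  have Re := F.re
  have hX := hp.ex y l hy hyl F.pl
  have hA := RF.A_le D hX
  have hEx := F.exact D hX
  have hyp : y ≠ p := hp.crit.symm.ne_last (by omega) hy
  obtain ⟨J, hJ, hAJ⟩ := PSq.exists_block hP hEx
  have hJl := hP.hit _ hEx J hJ hAJ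
  obtain ⟨g, hg, hmov, hgen⟩ := hP.good _ hEx J hJ hAJ
  have hκ1 : κ 1 = 1 := by
    have h1 := E.kmul 1 (one_mem _) 1 (one_mem _)
    rwa [mul_one, left_eq_mul] at h1
  refine d_of D F E hinv hp hn hy hyl hA (g := g) ?_ ?_
  · obtain ⟨a, ha, ha1⟩ := hF.exists_ne
    obtain ⟨α, hα, hα'⟩ := hmov a ha ha1
    refine ⟨a, ha, α, hα.1, fun h0 => hα' ?_⟩
    rw [h0, mul_inv_cancel]
    exact one_mem _
  · refine (hP.prod _ hEx).trans ((closure_le _).2 ?_)
    rintro x ⟨J', hJ', hx⟩
    by_cases hJJ : J' = J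
    · subst hJJ
      refine (hgen.trans ((closure_le _).2 ?_)) hx
      rintro α ⟨hα, hα'⟩
      refine subset_closure ⟨hα.1, ?_⟩
      rcases hα' with h1 | ⟨h1, h2⟩
      · left
        intro a ha
        have h3 : ((g⁻¹ * α * g) • a) * a⁻¹ ∈ zm M J' := by
          have h4 := h1 a ha
          have e : ((g⁻¹ * α * g) • a) * a⁻¹ = g⁻¹ • ((α • g • a) * (g • a)⁻¹) := by
            rw [smul_mul', smul_inv', inv_smul_smul, mul_smul, mul_smul]
          rw [e, h4 g⁻¹ (inv_mem hg)]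
          exact h4
        have h4 := PSq.st hF hP hJ ha (mul_mem (mul_mem (inv_mem hg) hα.2) hg) h3
        rw [mul_smul, mul_smul, inv_smul_eq_iff] at h4
        exact h4
      · right
        obtain ⟨a, ha, ha1⟩ := hF.exists_ne
        refine ⟨a, ha, ha1, ?_⟩
        have hoj : oj lam (im F.re (W q) hA) J' ≤
            closure {x | ∃ c ∈ fixer lam, ∃ y ∈ im F.re (W q) hA, x = c * y * c⁻¹} := by
          refine Subgroup.closure_mono ?_
          rintro x ⟨c, hc, z, hz, rfl⟩
          exact ⟨c, hc.2, z, hz.1, rfl⟩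
        rcases PSq.dich hF hP hJ hJl hns with ⟨J₂, hJ₂, hne, hJ₂l⟩ | ⟨huniq, htm⟩
        · obtain ⟨φ, hφ, h, hh, k1, k2, k3⟩ := PSq.sepA hF hP hJ hJl hJ₂ hne hJ₂l hg hα.2 h1 ha ha1
          obtain ⟨k, hk, hk1⟩ := E.kh φ hφ
          have hcomm : ∀ u ∈ W p, φ (π u) = 1 → k * u = u * k := fun u hu h0 => by
            obtain ⟨m1, m2⟩ := hk1 u hu
            rw [h0] at m2
            exact comm_eq_one.1 (E.kker _ m1 m2.symm)
          refine ⟨h, hoj hh, k, hk, fun u hu h0 => hcomm u hu (by rw [h0]; exact k1),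
            fun u hu h0 => hcomm u hu (by rw [h0]; exact k2), fun u hu h0 => ⟨(hk1 u hu).1, fun h4 => k3 ?_⟩⟩
          rw [← h0, (hk1 u hu).2, comm_eq_one.2 h4, hκ1]
        · obtain ⟨hAJ', hlE, hTJ⟩ := PSq.uniq_case hF hP hEx hJ hJl huniq
          have hq : ∀ f ∈ W q, ρ f ∈ J' := fun f hf => hAJ' ⟨f, hf, rfl⟩
          have hgB := h2 hAJ' hlE htm hTJ (phi D Re E.kmul (em M J'))
            (fun φ hφ x hx y hy => phi_mul D Re E.kmul hφ hx hy)
            (fun φ hφ j hj => phi_inv D Re E.kmul (fun j hj e he => smul_em hj he) hφ hj)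
            (fun a ha ha1 => by
              obtain ⟨φ, hφ, h0⟩ := hF.f1 a ha ha1
              exact ⟨_, kh_mem D Re E.kmul E hφ, h0⟩)
            (fun φ hφ j hj a ha ha1 h0 b hb => phi_ti D Re E.kmul F E hyl hyp hφ ha ha1
              (smul_em hj (hlE ha)) h0 hb (smul_em hj (hlE hb)))
            (by
              by_cases hTj : ∀ t ∈ T, ∃ j ∈ J', ∀ e ∈ em M J', t • e = j • e
              · left
                obtain ⟨e₀, he₀, he₁⟩ : ∃ e ∈ tm M J', e ≠ 1 := by
                  by_contra hcon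
                  push Not at hcon
                  exact htm ((eq_bot_iff_forall _).2 hcon)
                obtain ⟨u₀, hu₀, rfl⟩ := Re.psurj e₀
                obtain ⟨g₁, hg₁, m1, m2⟩ := Re.exists_mov D (q := q) (J := J') (T := S) (E := (em M J' : Set M))
                  (fun f hf => hA hf)
                  (fun u hu h0 => hp.cen u hu fun b hb => (comm_mem_iff Re D (hA hb) hu).2 (h0 b hb)) hq
                  (by
                    refine (hP.gens _ hEx J' hJ hAJ).trans (Subgroup.closure_mono ?_)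
                    rintro x ⟨c, hc, _, ⟨⟨f, hf, rfl⟩, -⟩, rfl⟩
                    exact ⟨f, hf, c, hc, rfl⟩)
                  E.cS E.fS
                  (fun g hg => by
                    obtain ⟨j, hj, hje⟩ := hTj _ (E.ST g hg)
                    refine ⟨j, hj, fun e he => ?_⟩
                    rw [mul_smul, hje _ (smul_em (inv_mem hj) he), smul_inv_smul])
                  hu₀ (fun h0 => he₁ ((Re.pker u₀ hu₀).2 h0)) (fun i hi => he₀.2 i hi)
                obtain ⟨φ, hφ, h0⟩ := exists_phi D Re E.kmul hg₁ m1 hu₀ he₀.1 E.kker m2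
                exact ⟨φ, hφ, _, he₀, h0⟩
              · exact Or.inr hTj) a ha ha1
          obtain ⟨φ, ⟨g', hg', m1, m2⟩, h, hh, k1, k2, k3⟩ := hgB
          have e1 : g • a ∈ em M J' := smul_em hg (hlE ha)
          have e2 : (α • g • a) * (g • a)⁻¹ ∈ em M J' := comm_mem_em hα.2 _
          have hhJ : g * h * g⁻¹ ∈ J' := by
            have h5 : oj lam (im F.re (W q) hA) J' ≤ J' := by
              refine (closure_le _).2 ?_
              rintro x ⟨c, hc, y, hy, rfl⟩
              exact mul_mem (mul_mem hc.1 hy.2) (inv_mem hc.1)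
            exact mul_mem (mul_mem hg (h5 hh)) (inv_mem hg)
          have e3 := comm_mem_em hhJ ((α • g • a) * (g • a)⁻¹)
          have hcomm : ∀ u ∈ W p, π u ∈ em M J' → φ (π u) = 1 → g' * u = u * g' := fun u hu hue h0 => by
            have h5 := m2 u hu hue
            rw [h0] at h5
            exact comm_eq_one.1 (E.kker _ (mem_R D Re hg' hu (m1 _ hue)) h5.symm)
          refine ⟨h, hoj hh, g', hg', fun u hu h0 => hcomm u hu (by rw [h0]; exact e1) (by rw [h0]; exact k1),
            fun u hu h0 => hcomm u hu (by rw [h0]; exact e2) (by rw [h0]; exact k2), fun u hu h0 => ?_⟩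
          have e4 : π u ∈ em M J' := by rw [h0]; exact e3
          refine ⟨mem_R D Re hg' hu (m1 _ e4), fun h4 => k3 ?_⟩
          rw [← h0, m2 u hu e4, comm_eq_one.2 h4, hκ1]
    · refine subset_closure ⟨hx.1, Or.inl fun a ha => ?_⟩
      have h1 : x * g = g * x := hP.comm J' hJ' J hJ hJJ x hx.2 g hg
      have h2 : x • a = a := o2_le _ (hEx.le hx.1) a ha
      rw [smul_smul, h1, mul_smul, h2]

end base

/-! ### All flags -/

section all

variable {p : X} {l : L} {ρ : G → H} {π : G → M} {T : Subgroup H} {lam U : Subgroup M}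
  {Kh : Subgroup (M →* K)} {S : Subgroup G} {κ : G → K} {Pi : Set (Subgroup H)}
variable [Finite G] (D : Geom inc R W V s t) (F : RF inc R W V p l ρ π lam U)
  (E : Ext inc R W V p l ρ π T Kh S κ) (hflag : ∀ p' l', inc p' l' → ∃ g : G, p' = g • p ∧ l' = g • l)
  (hinv : Inv inc R)
  (hF : Flag T lam U Kh) (hP : PSq K T lam Pi)
include D F hflag hF hP

/-- **(4.0), (6.1)** : `NS` for all flags. -/
theorem ns (E : Ext inc R W V p l ρ π T Kh S κ)
    (hinv : Inv inc R) (hn : 2 ≤ n)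
    (hns : ¬ Single Pi lam) : NS inc R W V n where
  k1 p' l' A h y hy hne := by
    obtain ⟨g, rfl, rfl⟩ := hflag p' l' h.ql
    exact RF.k1 D (F.smul D g) hF hP hns h hy hne
  k2 p' l' A h y hy hne := by
    obtain ⟨g, rfl, rfl⟩ := hflag p' l' h.ql
    exact RF.k2 D (F.smul D g) hF hP hns h hy hne
  d p' q' h := by
    obtain ⟨y, l', hy, hyl, hpl⟩ := h.crit.symm.last (by omega)
    obtain ⟨g, rfl, rfl⟩ := hflag p' l' hpl
    exact d_base D (F.smul D g) (E.smul D g) hinv h hn hy hyl hF hP hns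

end all

end Cfsg.Agent.Omega.NO3S.FarB.Plug
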