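import Cfsg.Agent.Omega.NO3S.FarB.Node

/-!
# (F1), `q ≥ 4`, over the `(R, B)`-frame: the socket `FOneB` from (ML) and the K-input on the blocks

* `fOneB_of_kps` : `NO3S.FOneB K` (`Node/NO3SLevel.lean`, every `n ≥ 1`) from `MLK` and `KPS` for K-groups (`front` of
  `FarB/Node.lean`, helper973).

(The socket `FarBF` is `FarQ.Free.farBF`, `Free/End.lean`.)
-/

set_option autoImplicit false
set_option linter.unusedSectionVars false

namespace Cfsg.Agent.Omega.NO3S.FarB

open Subgroup Cfsg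
open Cfsg.Agent.Omega.NO3S.FarQ (KPS)
open Cfsg.Agent.Omega.ML.Final (MLK)

universe u

/-- **(F1) from the K-input on the blocks.** -/
theorem fOneB_of_kps {K : Frame.Cls.{u}} (hML : MLK.{u, u}) (hPS : KPS.{u} (fun H _ => IsKGroup H)) :
    NO3S.FOneB K := by
  intro G _ _ _ S P h F _ _ _ hF _ B R hB n y hn hc
  exact Or.inl (front hML hPS h.toHyp hB.pb (hB.card.symm ▸ hF) hn hc)

end Cfsg.Agent.Omega.NO3S.FarB
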